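import Cfsg.Agent.Lib.ToddCox.Glue
set_option autoImplicit false
set_option maxRecDepth 100000
namespace Cfsg.Agent.Lib.ToddCox.SP44C5
def E_0 : ℕ := 0xf0800003c00003c200000f0000110400003c00003c1000011000006000000200000200000006000006fc000030000033f000006000009fc000020000023f00000900000efc000034000037f00000e000001000000040000040000001000002fc000004000007f000002000005040000140000141000005000004fc00000c00000ff000004000007fc000014000017f00000700000bfc000020000023f00000b000010fc000034000037f00001000001108000034000034200001100000a08000028000028200000a00000704000014000014100000700000004000000000000100000000000000000000000000000000000000d00000044000044000000d00000b04000040000040100000b00000a0000003c00003c000000a0000090400003800003810000090000080400003400003410000080000080000003000003000000080000070800002c00002c20000070000060400002800002810000060000060000002400002400000060000050800002000002020000050000040000001c00001c00000040000030800001800001820000030000030000001400001400000030000020400001000001010000020000010400000c00000c1000001000001000000080000080000001000000080000040000042000000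
end Cfsg.Agent.Lib.ToddCox.SP44C5
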