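import Cfsg.Agent.Lib.ToddCox.SP44C5.Data
set_option autoImplicit false
set_option maxRecDepth 100000
namespace Cfsg.Agent.Lib.ToddCox.SP44C5
theorem wordsGood : allBelow (wordsOK W (relR Rb inv) inv sp) nW 4 = true := by decide +kernel
theorem d0 : allBits (fun k => bif Nat.blt k 17 then chkDef Eo inv k else true) 13 0 = true := by decide +kernel
theorem s0 : chkStream Eo inv W isH 18 17 0x10800004000002a0000218000070000052000012000005000002400006a00000f000020000004c00003a00000a000010000006000008000001300000e800000000007e000016000004000004400007a000017000003000006c000076000018000002000006800002000000a000002000000000004400002400000080000e400000a000009000007800006400004200002b00000480000d800000400000800000380000cc000008000004000018000009c00000e00000d000018800002000000c000015000017800003800000a00001f000016800006000000800001e00000a000003000000c0000020000000000090000044000001000002800002400001e000019000015000008000000600002000000c0000038000010000004000000000008c00004a000023000000800001400001200000f00000c800000800002400000a000002000000000004a000001000002800002c00002600000100000600000180000040000050000048000003ffffffffffff = true := by decide +kernel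
theorem c0 : Covered Eo inv W isH 17 35 := covered_of_stream 18 17 _ s0
theorem l0 : chkPoints Eo cF (2 * nEv) N ys 10 0 0x15000001c000084000008000010800001c00008a000008000021800002400003a000006000015800002400003200000500001000000240000520000060000098000010000038000008000007800000c00003000000700002080000100000160000020000090000018000080000005000007000001400006a00000300000480000080000140000040000028000004000010000003000000800000000000800000200001c80000040000000000010000120000000000044000000 = true := by decide +kernel
theorem k0 : LinksOK Eo cF (2 * nEv) N ys 0 10 := linksOK_of_points 10 0 _ l0
end Cfsg.Agent.Lib.ToddCox.SP44C5
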